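import Cfsg.Agent.FPF25.Basics

/-!
Half-transitive linear `p`-groups: stabilisers, irreducibility, semiregular case.
-/

set_option autoImplicit false

namespace Cfsg.Agent.HalfTrans3371

open Subgroup

variable {q : ℕ} [hq : Fact q.Prime] {V : Type*} [AddCommGroup V] [Module (ZMod q) V] [Finite V]
variable {G : Type*} [Group G] [Finite G] (ρ : G →* (V ≃ₗ[ZMod q] V))

/-- The stabiliser of a vector. -/
def st (v : V) : Subgroup G := (MulAction.stabilizer (V ≃ₗ[ZMod q] V) v).comap ρ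

theorem mem_st {v : V} {g : G} : g ∈ st ρ v ↔ ρ g v = v := Iff.rfl

/-- All nonzero vectors have stabilisers of one order. -/
def Equal : Prop := ∀ v w : V, v ≠ 0 → w ≠ 0 → Nat.card (st ρ v) = Nat.card (st ρ w)

/-- Only the identity fixes a nonzero vector. -/
def SemiReg : Prop := ∀ v : V, v ≠ 0 → ∀ g : G, ρ g v = v → g = 1

omit [Finite V] [Finite G] in
theorem act_mul (a b : G) (v : V) : ρ (a * b) v = ρ a (ρ b v) := by rw [map_mul]; rfl

omit [Finite V] [Finite G] in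
theorem act_one (v : V) : ρ 1 v = v := by rw [map_one]; rfl

theorem equal_of_half (h : ∀ v w : V, v ≠ 0 → w ≠ 0 →
    Nat.card {u : V | ∃ g : G, ρ g v = u} = Nat.card {u : V | ∃ g : G, ρ g w = u}) : Equal ρ := by
  intro v w hv hw
  letI : MulAction G V := MulAction.compHom V ρ
  have key : ∀ v : V, (st ρ v).index = Nat.card {u : V | ∃ g : G, ρ g v = u} := fun v => by
    rw [show st ρ v = MulAction.stabilizer G v from rfl, MulAction.index_stabilizer, Nat.card_coe_set_eq]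
    rfl
  have h1 := card_mul_index (st ρ v)
  have h2 := card_mul_index (st ρ w)
  rw [key, h v w hv hw, ← key] at h1
  exact Nat.eq_of_mul_eq_mul_right (Nat.pos_of_ne_zero index_ne_zero_of_finite) (h1.trans h2.symm)

theorem semiReg_of_bot (he : Equal ρ) {v : V} (hv : v ≠ 0) (h : st ρ v = ⊥) : SemiReg ρ := by
  intro w hw g hg
  have h1 : st ρ w = ⊥ := card_eq_one.1 (by rw [← he v w hv hw, h, card_bot])
  exact mem_bot.1 (h1 ▸ (hg : g ∈ st ρ w))

theorem card_two_of_not (he : Equal ρ) (hn : ¬ SemiReg ρ) {v : V} (hv : v ≠ 0) : st ρ v ≠ ⊥ :=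
  fun h => hn (semiReg_of_bot ρ he hv h)

omit [Finite G] in
theorem trivial_of_fix_all (hρ : Function.Injective ρ) {g : G} (h : ∀ v, ρ g v = v) : g = 1 :=
  hρ (by rw [map_one]; exact LinearEquiv.ext h)

/-- In the defining characteristic the group is trivial. -/
theorem subsingleton_of_eq (hρ : Function.Injective ρ) [Nontrivial V] (hG : IsPGroup q G) (he : Equal ρ) :
    Subsingleton G := by
  letI : MulAction G V := MulAction.compHom V ρ
  obtain ⟨v0, hv0⟩ := exists_ne (0 : V)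
  have hdvd : q ∣ Nat.card V := by
    have := addOrderOf_dvd_natCard v0
    rwa [addOrderOf_eq_prime (p := q) (ZModModule.char_nsmul_eq_zero q v0) hv0] at this
  obtain ⟨b, hb, hb0⟩ := hG.exists_fixed_point_of_prime_dvd_card_of_fixed_point V hdvd
    (show (0 : V) ∈ MulAction.fixedPoints G V from fun g => map_zero (ρ g))
  have htop : st ρ b = ⊤ := eq_top_iff.2 fun g _ => hb g
  refine ⟨fun x y => ?_⟩
  have key : ∀ g : G, g = 1 := fun g => trivial_of_fix_all ρ hρ fun v => by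
    by_cases hv : v = 0
    · rw [hv, map_zero]
    · have h1 : st ρ v = ⊤ := eq_top_of_card_eq _ (by rw [he v b hv (Ne.symm hb0), htop, card_top])
      exact (h1 ▸ mem_top g : g ∈ st ρ v)
  rw [key x, key y]

theorem cyclic_or_quaternion_of_semiReg [Nontrivial V] {p : ℕ} [Fact p.Prime] (hG : IsPGroup p G) (hpq : p ≠ q)
    (h : SemiReg ρ) : IsCyclic G ∨ ∃ n : ℕ, Nonempty (G ≃* QuaternionGroup n) := by
  obtain ⟨k, hk⟩ := IsPGroup.iff_card.1 hG
  have hfp : FPF25.HasFPF G := FPF25.hasFPF_of_module (q := q) (A := V) (fun hd => hpq (by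
      rw [hk] at hd
      exact ((Nat.prime_dvd_prime_iff_eq hq.out Fact.out).1 (hq.out.dvd_of_dvd_pow hd)).symm))
    (fun g => (ρ g).toLinearMap.toAddMonoidHom) (act_one ρ) (act_mul ρ) fun g w hg hw => by
      by_contra hw0
      exact hg (h w hw0 g hw)
  rcases hfp.cyclic_or_quaternion (P := ⊤) (hG.to_subgroup ⊤) with hc | ⟨-, m, -, ⟨e⟩⟩
  · exact Or.inl (Subgroup.topEquiv.isCyclic.1 hc)
  · exact Or.inr ⟨_, ⟨Subgroup.topEquiv.symm.trans e⟩⟩

/-- A half-transitive reducible group is semiregular. -/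
theorem irreducible_of_not_semiReg (hρ : Function.Injective ρ) (hco : ¬ q ∣ Nat.card G) (he : Equal ρ)
    (hn : ¬ SemiReg ρ) (W : Submodule (ZMod q) V) (hW : ∀ g : G, ∀ w ∈ W, ρ g w ∈ W) : W = ⊥ ∨ W = ⊤ := by
  classical
  by_contra! hne
  letI : Fintype G := Fintype.ofFinite G
  obtain ⟨U, hU⟩ := W.exists_isCompl
  let π0 : V →ₗ[ZMod q] W := W.projectionOnto U hU
  let π : V →ₗ[ZMod q] V := (Fintype.card G : ZMod q)⁻¹ •
    ∑ g : G, ((ρ g).toLinearMap.comp (W.subtype.comp π0)).comp (ρ g⁻¹).toLinearMap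
  have hπ : ∀ v, π v = (Fintype.card G : ZMod q)⁻¹ • ∑ g : G, ρ g (π0 (ρ g⁻¹ v) : V) := fun v => by
    simp [π, LinearMap.sum_apply]
  have hcard : (Fintype.card G : ZMod q) ≠ 0 := fun h => hco (by
    rw [Nat.card_eq_fintype_card]; exact (ZMod.natCast_eq_zero_iff _ _).1 h)
  have hmem : ∀ v, π v ∈ W := fun v => by
    rw [hπ]
    exact W.smul_mem _ (W.sum_mem fun g _ => hW g _ (π0 _).2)
  have hid : ∀ w ∈ W, π w = w := fun w hw => by
    rw [hπ, Finset.sum_eq_card_nsmul (b := w) fun g _ => ?_, Finset.card_univ, ← Nat.cast_smul_eq_nsmul (ZMod q),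
      smul_smul, inv_mul_cancel₀ hcard, one_smul]
    rw [show π0 (ρ g⁻¹ w) = ⟨ρ g⁻¹ w, hW g⁻¹ w hw⟩ from
      Submodule.projectionOnto_apply_left hU ⟨ρ g⁻¹ w, hW g⁻¹ w hw⟩, ← act_mul, mul_inv_cancel, act_one]
  have hcomm : ∀ (h : G) v, π (ρ h v) = ρ h (π v) := fun h v => by
    rw [hπ, hπ, map_smul, map_sum]
    congr 1
    refine (Fintype.sum_equiv (Equiv.mulLeft h) _ _ fun g => ?_).symm
    show ρ h (ρ g _) = ρ (h * g) (π0 (ρ (h * g)⁻¹ (ρ h v)) : V)
    rw [← act_mul, ← act_mul ρ (h * g)⁻¹, mul_inv_rev, inv_mul_cancel_right]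
  obtain ⟨w, hw, hw0⟩ := W.exists_mem_ne_zero_of_ne_bot hne.1
  obtain ⟨v, hv⟩ : ∃ v, v ∉ W := by
    by_contra! h
    exact hne.2 (eq_top_iff.2 fun v _ => h v)
  set u := v - π v with hu
  have hu0 : u ≠ 0 := fun e => hv (by rw [sub_eq_zero.1 e]; exact hmem v)
  have hπu : π u = 0 := by rw [hu, map_sub, hid _ (hmem v), sub_self]
  have key : ∀ w ∈ W, w ≠ 0 → ∀ u : V, π u = 0 → u ≠ 0 → st ρ w = st ρ u := by
    intro w hw hw0 u hπu hu0
    have hne' : w + u ≠ 0 := fun e => hw0 (by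
      have := congrArg π e
      rwa [map_add, hid w hw, hπu, add_zero, map_zero] at this)
    have hle : st ρ (w + u) ≤ st ρ w ⊓ st ρ u := by
      intro g hg
      have h1 : ρ g w = w := by
        have h2 : π (ρ g (w + u)) = π (w + u) := congrArg π ((mem_st ρ).1 hg)
        rwa [hcomm, map_add, hid w hw, hπu, add_zero] at h2
      refine ⟨h1, ?_⟩
      have h3 : ρ g (w + u) = w + u := hg
      rw [map_add, h1] at h3
      exact add_left_cancel h3
    have h1 := eq_of_le_of_card_ge (hle.trans inf_le_left) (he w (w + u) hw0 hne').le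
    have h2 := eq_of_le_of_card_ge (hle.trans inf_le_right) (he u (w + u) hu0 hne').le
    exact h1.symm.trans h2
  refine card_two_of_not ρ he hn hw0 (eq_bot_iff.2 fun g hg => mem_bot.2 (trivial_of_fix_all ρ hρ fun x => ?_))
  have h1 : ρ g (π x) = π x := by
    by_cases h0 : π x = 0
    · rw [h0, map_zero]
    · exact mem_st ρ |>.1 ((key (π x) (hmem x) h0 u hπu hu0).symm ▸ key w hw hw0 u hπu hu0 ▸ hg)
  have h2 : ρ g (x - π x) = x - π x := by
    by_cases h0 : x - π x = 0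
    · rw [h0, map_zero]
    · exact mem_st ρ |>.1 (key w hw hw0 (x - π x) (by rw [map_sub, hid _ (hmem x), sub_self]) h0 ▸ hg)
  rw [map_sub, h1] at h2
  exact sub_left_inj.1 h2

theorem fix_central (hρ : Function.Injective ρ)
    (hirr : ∀ W : Submodule (ZMod q) V, (∀ g : G, ∀ w ∈ W, ρ g w ∈ W) → W = ⊥ ∨ W = ⊤)
    {y : G} (hy : ∀ g : G, g * y = y * g) (hy1 : y ≠ 1) {v : V} (hv : ρ y v = v) : v = 0 := by
  let W : Submodule (ZMod q) V := LinearMap.eqLocus (ρ y : V →ₗ[ZMod q] V) LinearMap.id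
  have hW : ∀ w, w ∈ W ↔ ρ y w = w := fun w => Iff.rfl
  rcases hirr W (fun g w hw => by
    rw [hW] at hw ⊢
    rw [← act_mul, ← hy g, act_mul, hw]) with h | h
  · exact (Submodule.mem_bot (R := ZMod q)).1 (h ▸ (hW v).2 hv)
  · exact absurd (trivial_of_fix_all ρ hρ fun w => (hW w).1 (h ▸ Submodule.mem_top)) hy1

theorem semiReg_of_comm (hρ : Function.Injective ρ)
    (hirr : ∀ W : Submodule (ZMod q) V, (∀ g : G, ∀ w ∈ W, ρ g w ∈ W) → W = ⊥ ∨ W = ⊤)
    (hc : ∀ x y : G, x * y = y * x) : SemiReg ρ := fun _ hv g hg =>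
  by_contra fun h1 => hv (fix_central ρ hρ hirr (fun x => hc x g) h1 hg)

end Cfsg.Agent.HalfTrans3371
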