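import Cfsg.Agent.HalfTrans3371.Basic
import Cfsg.Agent.Fusion.UniqueInvolution

/-!
Half-transitive 2-groups with a cyclic subgroup of index two.
-/

set_option autoImplicit false

namespace Cfsg.Agent.HalfTrans3371

open Subgroup

section Arith

theorem two_pow_eq_succ {q r f : ℕ} (hq : 1 < q) (hodd : Odd q) (h : q ^ r + 1 = 2 ^ f) (hr : 0 < r) : r = 1 := by
  obtain ⟨k, hk⟩ : Odd r := by
    rw [← Nat.not_even_iff_odd]
    rintro ⟨u, rfl⟩
    obtain ⟨w, hw⟩ := hodd.pow (n := u)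
    have h4 : 4 ≤ q ^ (u + u) + 1 := by
      have : q ≤ q ^ (u + u) := Nat.le_self_pow (by omega) q
      obtain ⟨v, rfl⟩ := hodd
      omega
    have h4' : 4 ∣ 2 ^ f := by
      rcases f with _ | _ | f
      · omega
      · omega
      · exact ⟨2 ^ f, by ring⟩
    rw [← h, pow_add, hw, show (2 * w + 1) * (2 * w + 1) + 1 = 4 * (w * w + w) + 2 by ring] at h4'
    omega
  obtain ⟨v, hv⟩ := hodd
  have hmod : q ^ r ≡ q [MOD 2 * (q + 1)] := by
    have h2 : q ^ 2 ≡ 1 [MOD 2 * (q + 1)] := by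
      refine ((Nat.modEq_iff_dvd' (Nat.one_le_pow _ _ (by omega))).2 ⟨v, ?_⟩).symm
      subst hv
      rw [show (2 * v + 1) ^ 2 = 2 * (2 * v + 1 + 1) * v + 1 by ring]
      omega
    have := (h2.pow k).mul_right q
    rwa [← pow_mul, ← pow_succ, ← hk, one_pow, one_mul] at this
  have hmod2 : 2 ^ f ≡ q + 1 [MOD 2 * (q + 1)] := h ▸ hmod.add_right 1
  have hdvd : q + 1 ∣ 2 ^ f := by
    have := (hmod2.of_dvd (Dvd.intro_left 2 rfl : q + 1 ∣ 2 * (q + 1))).trans (Nat.modEq_zero_iff_dvd.2 dvd_rfl)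
    exact Nat.modEq_zero_iff_dvd.1 this
  obtain ⟨i, hi, hqi⟩ := (Nat.dvd_prime_pow Nat.prime_two).1 hdvd
  rcases hi.lt_or_eq with hlt | rfl
  · exfalso
    have h1 : 2 * (q + 1) ∣ 2 ^ f := by rw [hqi, ← pow_succ']; exact pow_dvd_pow 2 hlt
    have h2 := Nat.modEq_zero_iff_dvd.1 (hmod2.symm.trans (Nat.modEq_zero_iff_dvd.2 h1))
    have := Nat.le_of_dvd (by omega) h2
    omega
  · rcases Nat.lt_or_ge 1 r with h1 | h1
    · have := Nat.pow_lt_pow_right hq h1
      rw [pow_one] at this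
      omega
    · omega

end Arith

variable {q : ℕ} [hq : Fact q.Prime] {V : Type*} [AddCommGroup V] [Module (ZMod q) V] [Finite V] [Nontrivial V]
variable {G : Type*} [Group G] [Finite G] (ρ : G →* (V ≃ₗ[ZMod q] V))
variable (hρ : Function.Injective ρ)
  (hirr : ∀ W : Submodule (ZMod q) V, (∀ g : G, ∀ w ∈ W, ρ g w ∈ W) → W = ⊥ ∨ W = ⊤)
  {a : G} {e : ℕ} (he : 2 ≤ e) (ha : orderOf a = 2 ^ e) (hidx : (zpowers a).index = 2)
  {b : G} (hb : b ∉ zpowers a) {k : ℕ} (hbk : b * a * b⁻¹ = a ^ k) (hk : 4 ∣ k + 1)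

include hρ hirr he ha hidx hb hbk hk

omit hρ hirr in
theorem invert {x : G} (hx : x ∉ zpowers a) :
    x * a * x⁻¹ = a ^ k ∧ x * a ^ 2 ^ (e - 2) * x⁻¹ = (a ^ 2 ^ (e - 2))⁻¹ := by
  have h1 : x * b⁻¹ ∈ zpowers a := by
    have := Subgroup.mul_mem_iff_of_index_two hidx (a := x) (b := b⁻¹)
    exact this.2 ⟨fun e => absurd e hx, fun e => absurd (inv_mem_iff.1 e) hb⟩
  obtain ⟨j, hj⟩ := mem_zpowers_iff.1 h1
  have hx' : x = a ^ j * b := by rw [hj, inv_mul_cancel_right]
  have h2 : x * a * x⁻¹ = a ^ k := by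
    rw [hx', show a ^ j * b * a * (a ^ j * b)⁻¹ = a ^ j * (b * a * b⁻¹) * (a ^ j)⁻¹ by group, hbk,
      ((Commute.refl a).zpow_left j |>.pow_right k).eq, mul_inv_cancel_right]
  refine ⟨h2, ?_⟩
  rw [← conj_pow, h2, ← pow_mul, eq_inv_iff_mul_eq_one, ← pow_add]
  obtain ⟨c, hc⟩ := hk
  rw [show k * 2 ^ (e - 2) + 2 ^ (e - 2) = 2 ^ e * c by
    rw [← Nat.add_one_mul, hc, show 2 ^ e = 2 ^ 2 * 2 ^ (e - 2) by rw [← pow_add]; congr 1; omega]; ring,
    pow_mul, ← ha, pow_orderOf_eq_one, one_pow]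

omit hρ hirr in
theorem centre_z : ∀ g : G, g * (a ^ 2 ^ (e - 1)) = a ^ 2 ^ (e - 1) * g := by
  intro g
  have hz : a ^ 2 ^ (e - 1) = (a ^ 2 ^ (e - 2)) ^ 2 := by
    rw [← pow_mul, ← pow_succ, show e - 2 + 1 = e - 1 by omega]
  by_cases hg : g ∈ zpowers a
  · obtain ⟨j, rfl⟩ := mem_zpowers_iff.1 hg
    exact ((Commute.refl a).zpow_left j |>.pow_right _).eq
  · refine mul_inv_eq_iff_eq_mul.1 ?_
    rw [hz, ← conj_pow, (invert he ha hidx hb hbk hk hg).2, inv_pow, inv_eq_iff_mul_eq_one, ← pow_add, ← pow_mul,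
      show 2 ^ (e - 2) * (2 + 2) = 2 ^ e by
        rw [show (2 : ℕ) + 2 = 2 ^ 2 by norm_num, ← pow_add]; congr 1; omega, ← ha, pow_orderOf_eq_one]

omit hρ hirr hidx hb hbk hk in
theorem z_ne_one : a ^ 2 ^ (e - 1) ≠ 1 := fun h => by
  have := Nat.le_of_dvd (by positivity) (orderOf_dvd_of_pow_eq_one h)
  rw [ha] at this
  have := (Nat.pow_le_pow_iff_right (by norm_num : 1 < 2)).1 this
  omega

theorem inter {v : V} (hv : v ≠ 0) {g : G} (hg : g ∈ zpowers a) (hgv : ρ g v = v) : g = 1 := by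
  by_contra hg1
  have hzo : orderOf (a ^ 2 ^ (e - 1)) = 2 := by
    refine orderOf_eq_prime ?_ (z_ne_one he ha)
    rw [← pow_mul, ← pow_succ, show e - 1 + 1 = e by omega, ← ha, pow_orderOf_eq_one]
  have h2 : 2 ∣ orderOf g := by
    obtain ⟨j, rfl⟩ := mem_zpowers_iff.1 hg
    have hd : orderOf (a ^ j) ∣ 2 ^ e := orderOf_dvd_of_pow_eq_one (by
      rw [← zpow_natCast, ← zpow_mul, mul_comm, zpow_mul, zpow_natCast, ← ha, pow_orderOf_eq_one, one_zpow])
    obtain ⟨i, -, hio⟩ := (Nat.dvd_prime_pow Nat.prime_two).1 hd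
    rcases i with _ | i
    · exact absurd (orderOf_eq_one_iff.1 hio) hg1
    · exact hio ▸ dvd_pow_self 2 (by omega)
  have hz : a ^ 2 ^ (e - 1) ∈ zpowers g :=
    Fusion.mem_zpowers_of_orderOf_dvd (A := zpowers a) inferInstance (pow_mem (mem_zpowers a) _) hg (hzo.dvd.trans h2)
  have h1 : ρ (a ^ 2 ^ (e - 1)) v = v := zpowers_le.2 (show g ∈ st ρ v from hgv) hz
  exact hv (fix_central ρ hρ hirr (centre_z he ha hidx hb hbk hk) (z_ne_one he ha) h1)

/-- With all outside elements squaring into nontrivial elements the group is semiregular. -/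
theorem semiReg_of_squares (hsq : ∀ x : G, x ∉ zpowers a → x * x ≠ 1) : SemiReg ρ := by
  intro v hv g hg
  by_cases hgN : g ∈ zpowers a
  · exact inter ρ hρ hirr he ha hidx hb hbk hk hv hgN hg
  · exact absurd (inter ρ hρ hirr he ha hidx hb hbk hk hv
      (Subgroup.mul_self_mem_of_index_two hidx g) (show ρ (g * g) v = v by rw [act_mul, hg, hg])) (hsq g hgN)

/-- Counting the fixed vectors of the outside involutions. -/
theorem dihedral_case (heq : Equal ρ) (hn : ¬ SemiReg ρ) (hb2 : b * b = 1) (hodd : Odd q) {f : ℕ}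
    (hkf : k + 1 = 2 ^ f) (hf : f ≤ e) : Nat.card V = q ^ 2 ∧ q + 1 = 2 ^ f := by
  classical
  letI : Fintype G := Fintype.ofFinite G
  letI : Fintype V := Fintype.ofFinite V
  set T : Finset G := Finset.univ.filter fun x => x ∉ zpowers a ∧ x * x = 1 with hT
  set c := a ^ 2 ^ (e - 2) with hc
  set z := a ^ 2 ^ (e - 1) with hz
  have hcz : c * c = z := by rw [hc, hz, ← pow_add, ← two_mul, ← pow_succ', show e - 2 + 1 = e - 1 by omega]
  -- each vector is fixed by exactly one of them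
  have hmove : ∀ v : V, v ≠ 0 → ∀ g ∈ st ρ v, g ≠ 1 → g ∈ T := by
    intro v hv g hg h1
    have hgN : g ∉ zpowers a := fun h => h1 (inter ρ hρ hirr he ha hidx hb hbk hk hv h hg)
    refine Finset.mem_filter.2 ⟨Finset.mem_univ _, hgN, ?_⟩
    exact inter ρ hρ hirr he ha hidx hb hbk hk hv (Subgroup.mul_self_mem_of_index_two hidx g)
      ((st ρ v).mul_mem hg hg)
  have huniq : ∀ v : V, v ≠ 0 → ∃ t ∈ T, ρ t v = v ∧ ∀ t' ∈ T, ρ t' v = v → t' = t := by
    intro v hv
    obtain ⟨⟨g, hg⟩, hg1⟩ := Subgroup.ne_bot_iff_exists_ne_one.1 (card_two_of_not ρ heq hn hv)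
    have hgT := hmove v hv g hg fun h => hg1 (Subtype.ext h)
    refine ⟨g, hgT, hg, fun t' ht' htv => ?_⟩
    rw [hT, Finset.mem_filter] at ht' hgT
    have h3 : g⁻¹ * t' ∈ zpowers a :=
      (Subgroup.mul_mem_iff_of_index_two hidx).2 ⟨fun h => absurd (inv_mem_iff.1 h) hgT.2.1, fun h => absurd h ht'.2.1⟩
    have h4 := inter ρ hρ hirr he ha hidx hb hbk hk hv h3 ((st ρ v).mul_mem ((st ρ v).inv_mem hg) htv)
    exact (inv_mul_eq_one.1 h4).symm
  let Wt : G → Submodule (ZMod q) V := fun t => LinearMap.eqLocus (ρ t : V →ₗ[ZMod q] V) LinearMap.id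
  have hWt : ∀ t w, w ∈ Wt t ↔ ρ t w = w := fun t w => Iff.rfl
  have hzfix : ∀ v, ρ z v = -v := fun v => by
    have h1 : ρ z (v + ρ z v) = v + ρ z v := by
      rw [map_add, ← act_mul, show z * z = 1 by rw [hz, ← pow_add, ← two_mul, ← pow_succ',
        show e - 1 + 1 = e by omega, ← ha, pow_orderOf_eq_one], act_one, add_comm]
    have h2 := fix_central ρ hρ hirr (centre_z he ha hidx hb hbk hk) (z_ne_one he ha) h1
    exact eq_neg_of_add_eq_zero_right h2
  have htwo : (2 : ZMod q) ≠ 0 := fun h => by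
    have : ((2 : ℕ) : ZMod q) = 0 := by exact_mod_cast h
    rw [ZMod.natCast_eq_zero_iff] at this
    obtain ⟨u, hu⟩ := hodd
    have := Nat.le_of_dvd (by norm_num) this
    have := hq.out.two_le
    omega
  -- each fixed space is half of the whole
  obtain ⟨d, hd⟩ : ∃ d, Module.finrank (ZMod q) V = d := ⟨_, rfl⟩
  haveI : Module.Finite (ZMod q) V := Module.Finite.of_finite
  have hhalf : ∀ t ∈ T, 2 * Module.finrank (ZMod q) (Wt t) = d := by
    intro t ht
    rw [hT, Finset.mem_filter] at ht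
    have hct : c * t * c⁻¹ = z * t := by
      have h1 := (invert he ha hidx hb hbk hk ht.2.1).2
      rw [← hc] at h1
      have h2 : t * c⁻¹ = c * t := by
        have h3 := congrArg (fun u => u⁻¹) h1
        simp only [mul_inv_rev, inv_inv, mul_assoc] at h3
        calc t * c⁻¹ = t * (c⁻¹ * t⁻¹) * t := by group
          _ = c * t := by rw [h3]
      rw [mul_assoc, h2, ← mul_assoc, hcz]
    have hmap : (Wt t).map (ρ c : V →ₗ[ZMod q] V) = Wt (z * t) := by
      ext w
      constructor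
      · rintro ⟨u, hu, rfl⟩
        show ρ (z * t) (ρ c u) = ρ c u
        rw [← hct, ← act_mul, inv_mul_cancel_right, act_mul]
        exact congrArg _ hu
      · intro hw
        refine ⟨ρ c⁻¹ w, ?_, show ρ c (ρ c⁻¹ w) = w by rw [← act_mul, mul_inv_cancel, act_one]⟩
        show ρ t (ρ c⁻¹ w) = ρ c⁻¹ w
        rw [← act_mul, show t * c⁻¹ = c⁻¹ * (c * t * c⁻¹) by group, hct, act_mul]
        exact congrArg _ hw
    have hcompl : IsCompl (Wt t) (Wt (z * t)) := by
      refine ⟨Submodule.disjoint_def.2 fun w h1 h2 => ?_, codisjoint_iff.2 (eq_top_iff.2 fun w _ => ?_)⟩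
      · rw [hWt] at h1 h2
        rw [act_mul, h1, hzfix] at h2
        have : (2 : ZMod q) • w = 0 := by rw [two_smul]; nth_rw 1 [← h2]; exact neg_add_cancel w
        exact (smul_eq_zero.1 this).resolve_left htwo
      · refine Submodule.mem_sup.2 ⟨(2 : ZMod q)⁻¹ • (w + ρ t w), ?_, (2 : ZMod q)⁻¹ • (w - ρ t w), ?_, ?_⟩
        · rw [hWt, map_smul, map_add, ← act_mul, ht.2.2, act_one, add_comm]
        · rw [hWt, map_smul, act_mul, hzfix, map_sub, ← act_mul, ht.2.2, act_one, neg_sub]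
        · rw [← smul_add, add_add_sub_cancel, ← two_smul (ZMod q) w, smul_smul, inv_mul_cancel₀ htwo, one_smul]
    have h5 := Submodule.finrank_add_eq_of_isCompl hcompl
    rw [← hmap, (LinearEquiv.finrank_map_eq (ρ c) (Wt t)), hd] at h5
    omega
  obtain ⟨t0, ht0, -, -⟩ := huniq _ (exists_ne (0 : V)).choose_spec
  set r := Module.finrank (ZMod q) (Wt t0) with hr
  have hd2 : d = 2 * r := (hhalf t0 ht0).symm
  have hV : Nat.card V = q ^ d := by rw [Module.natCard_eq_pow_finrank (K := ZMod q), Nat.card_zmod, hd]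
  have hr0 : 0 < r := by
    have := Module.finrank_pos (R := ZMod q) (M := V)
    omega
  -- count
  have hcount : T.card * (q ^ r - 1) = q ^ d - 1 := by
    have key : (Finset.univ.erase (0 : V)) = T.biUnion fun t => Finset.univ.filter fun v => v ≠ 0 ∧ ρ t v = v := by
      ext v
      simp only [Finset.mem_erase, Finset.mem_univ, and_true, Finset.mem_biUnion, Finset.mem_filter, true_and]
      constructor
      · intro hv
        obtain ⟨t, ht, htv, -⟩ := huniq v hv
        exact ⟨t, ht, hv, htv⟩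
      · rintro ⟨t, -, hv, -⟩
        exact hv
    have h1 := congrArg Finset.card key
    rw [Finset.card_biUnion, Finset.card_erase_of_mem (Finset.mem_univ _), Finset.card_univ,
      ← Nat.card_eq_fintype_card, hV, Finset.sum_eq_card_nsmul (b := q ^ r - 1), smul_eq_mul] at h1
    · exact h1.symm
    · intro t ht
      have hrt : Module.finrank (ZMod q) (Wt t) = r := by have := hhalf t ht; omega
      have : (Finset.univ.filter fun v => v ≠ 0 ∧ ρ t v = v) = (Finset.univ.filter fun v => v ∈ Wt t).erase 0 := by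
        ext v; simp [hWt]
      rw [this, Finset.card_erase_of_mem (by simp), ← Fintype.card_subtype, ← Nat.card_eq_fintype_card,
        Module.natCard_eq_pow_finrank (K := ZMod q) (V := Wt t), Nat.card_zmod, hrt]
    · intro s hs t ht hst
      simp only [Function.onFun, Finset.disjoint_left, Finset.mem_filter]
      rintro v ⟨-, hv, hsv⟩ ⟨-, -, htv⟩
      obtain ⟨u, -, -, hu⟩ := huniq v hv
      exact hst ((hu s hs hsv).trans (hu t ht htv).symm)
  have hTc : T.card = k + 1 := by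
    have h1 : T = (Finset.univ.filter fun u => u ∈ zpowers a ∧ u ^ (k + 1) = 1).image (· * b) := by
      ext x
      simp only [hT, Finset.mem_filter, Finset.mem_univ, true_and, Finset.mem_image]
      have hbi : b⁻¹ = b := inv_eq_of_mul_eq_one_right hb2
      have hsq : ∀ u ∈ zpowers a, u * b * (u * b) = u ^ (k + 1) := by
        intro u hu
        obtain ⟨j, rfl⟩ := mem_zpowers_iff.1 hu
        have h2 : b * a ^ j * b = (a ^ k) ^ j := by
          conv_lhs => rw [show b * a ^ j * b = b * a ^ j * b⁻¹ by rw [hbi]]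
          rw [← conj_zpow, hbk]
        rw [show a ^ j * b * (a ^ j * b) = a ^ j * (b * a ^ j * b) by group, h2, pow_succ', ← zpow_natCast,
          ← zpow_natCast, ← zpow_mul, ← zpow_mul, mul_comm (k : ℤ) j]
      constructor
      · rintro ⟨hx, hx2⟩
        have hxb : x * b ∈ zpowers a :=
          (Subgroup.mul_mem_iff_of_index_two hidx).2 ⟨fun h => absurd h hx, fun h => absurd h hb⟩
        refine ⟨x * b, ⟨hxb, ?_⟩, by rw [mul_assoc, hb2, mul_one]⟩
        rw [← hsq _ hxb, mul_assoc x b b, hb2, mul_one, hx2]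
      · rintro ⟨u, ⟨hu, hu1⟩, rfl⟩
        exact ⟨fun h => hb (((zpowers a).mul_mem_cancel_left hu).1 h), (hsq u hu).trans hu1⟩
    rw [h1, Finset.card_image_of_injective _ (mul_left_injective b), ← Fintype.card_subtype,
      ← Nat.card_eq_fintype_card]
    letI := IsCyclic.commGroup (α := zpowers a)
    refine (Nat.card_congr (β := (powMonoidHom (k + 1) : zpowers a →* zpowers a).ker)
      { toFun := fun u => ⟨⟨u.1, u.2.1⟩, Subtype.ext (by simpa using u.2.2)⟩
        invFun := fun u => ⟨u.1.1, u.1.2, by simpa using congrArg Subtype.val (MonoidHom.mem_ker.1 u.2)⟩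
        left_inv := fun _ => rfl
        right_inv := fun _ => rfl }).trans ?_
    rw [IsCyclic.card_powMonoidHom_ker, Nat.card_zpowers, ha, hkf, Nat.gcd_eq_right (pow_dvd_pow 2 hf)]
  rw [hTc, hkf, hd2, two_mul, pow_add] at hcount
  have h1 : 2 ≤ q ^ r := hq.out.two_le.trans (Nat.le_self_pow hr0.ne' q)
  have h2 : q ^ r + 1 = 2 ^ f := by
    refine (Nat.eq_of_mul_eq_mul_right (show 0 < q ^ r - 1 by omega) (hcount.trans ?_)).symm
    rw [mul_comm (q ^ r + 1), Nat.sub_mul, one_mul, mul_add, mul_one]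
    omega
  have hr1 := two_pow_eq_succ hq.out.one_lt hodd h2 hr0
  rw [hV, hd2, hr1]
  exact ⟨rfl, by rw [← h2, hr1, pow_one]⟩

end Cfsg.Agent.HalfTrans3371
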