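import Cfsg.Agent.HalfTrans3371.Basic

/-!
Half-transitive monomial `p`-groups.
-/

set_option autoImplicit false

namespace Cfsg.Agent.HalfTrans3371

open Subgroup

section Arith

theorem pred_two_pow {q r s : ℕ} (hq : 1 < q) (hodd : Odd q) (h : q ^ r - 1 = 2 ^ s) (hr : 0 < r) :
    r = 1 ∨ (q = 3 ∧ r = 2) := by
  rcases Nat.even_or_odd r with ⟨u, rfl⟩ | ⟨k, hk⟩
  · right
    have hu : q ^ u - 1 ∣ 2 ^ s ∧ q ^ u + 1 ∣ 2 ^ s := by
      rw [← h, show q ^ (u + u) - 1 = (q ^ u + 1) * (q ^ u - 1) by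
        rw [← Nat.sq_sub_sq, one_pow, ← pow_mul]; ring_nf]
      exact ⟨dvd_mul_left _ _, dvd_mul_right _ _⟩
    obtain ⟨i, -, hi⟩ := (Nat.dvd_prime_pow Nat.prime_two).1 hu.1
    obtain ⟨j, -, hj⟩ := (Nat.dvd_prime_pow Nat.prime_two).1 hu.2
    have h3 : 3 ≤ q := by obtain ⟨v, rfl⟩ := hodd; omega
    have hqu : q ≤ q ^ u := Nat.le_self_pow (by omega) q
    have hi1 : i = 1 := by
      by_contra hne
      have hij : i < j := (Nat.pow_lt_pow_iff_right (by norm_num : 1 < 2)).1 (by omega)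
      rcases i with _ | _ | i
      · omega
      · omega
      · have h4 : 2 ^ (i + 2) ∣ 2 ^ j := pow_dvd_pow 2 hij.le
        have h5 : 2 ^ (i + 2) ∣ 2 := by
          have := Nat.dvd_sub h4 (dvd_refl (2 ^ (i + 2)))
          rwa [← hi, ← hj, show q ^ u + 1 - (q ^ u - 1) = 2 by omega, hi] at this
        have := Nat.le_of_dvd (by norm_num) h5
        rw [pow_add] at this
        have := Nat.one_le_two_pow (n := i)
        omega
    rw [hi1, pow_one] at hi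
    have hq3 : q = 3 := by omega
    refine ⟨hq3, ?_⟩
    have : u = 1 := by
      by_contra hne
      have : 3 ^ 2 ≤ 3 ^ u := Nat.pow_le_pow_right (by norm_num) (by omega)
      rw [hq3] at hi
      omega
    omega
  · left
    obtain ⟨v, hv⟩ := hodd
    have h2 : q ^ 2 ≡ 1 [MOD 2 * (q - 1)] := by
      refine ((Nat.modEq_iff_dvd' (Nat.one_le_pow _ _ (by omega))).2 ⟨v + 1, ?_⟩).symm
      subst hv
      rw [show (2 * v + 1) ^ 2 = 2 * (2 * v) * (v + 1) + 1 by ring]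
      simp
    have h3 := (h2.pow k).mul_right q
    rw [← pow_mul, ← pow_succ, ← hk, one_pow, one_mul] at h3
    have hdvd : q - 1 ∣ 2 ^ s := h ▸ by simpa using Nat.sub_dvd_pow_sub_pow q 1 r
    obtain ⟨i, hi, hqi⟩ := (Nat.dvd_prime_pow Nat.prime_two).1 hdvd
    rcases hi.lt_or_eq with hlt | rfl
    · exfalso
      have h5 : 2 * (q - 1) ∣ q ^ r - 1 := by rw [hqi, ← pow_succ', h]; exact pow_dvd_pow 2 hlt
      have h6 : q ^ r ≡ 1 [MOD 2 * (q - 1)] :=
        ((Nat.modEq_iff_dvd' (Nat.one_le_pow _ _ (by omega))).2 h5).symm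
      have h7 : 2 * (q - 1) ∣ q - 1 := (Nat.modEq_iff_dvd' (by omega)).1 (h6.symm.trans h3)
      have := Nat.le_of_dvd (by omega) h7
      omega
    · by_contra hne
      have := Nat.pow_lt_pow_right hq (show 1 < r by omega)
      rw [pow_one] at this
      omega

theorem perm_move {p : ℕ} (hp : p.Prime) (σ : Equiv.Perm (Fin p)) (hσ : orderOf σ = p) :
    (∀ i, σ i ≠ i) ∧ ∀ i j, ∃ k : ℕ, (σ ^ k) i = j := by
  have hc : σ.IsCycle := Equiv.Perm.isCycle_of_prime_order'' (by simpa using hp) (by simpa using hσ)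
  have hs : σ.support = Finset.univ := Finset.eq_univ_of_card _ (by rw [← hc.orderOf, hσ, Fintype.card_fin])
  have hmv : ∀ i, σ i ≠ i := fun i => Equiv.Perm.mem_support.1 (hs ▸ Finset.mem_univ i)
  exact ⟨hmv, fun i j => hc.exists_pow_eq (hmv i) (hmv j)⟩

end Arith

variable {q : ℕ} [hq : Fact q.Prime] {V : Type*} [AddCommGroup V] [Module (ZMod q) V] [Finite V] [Nontrivial V]
variable {G : Type*} [Group G] [Finite G] (ρ : G →* (V ≃ₗ[ZMod q] V))
variable {p : ℕ} [hp : Fact p.Prime] {H : Subgroup G} {W : Fin p → Submodule (ZMod q) V}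
variable (hρ : Function.Injective ρ) (htop : iSup W = ⊤) (hind : iSupIndep W)
  (hstab : ∀ h ∈ H, ∀ i, ∀ w ∈ W i, ρ h w ∈ W i) (hidx : H.index = p)
  (hperm : ∀ g : G, g ∉ H → ∃ σ : Equiv.Perm (Fin p), orderOf σ = p ∧
    ∀ i, (W i).map (ρ g : V →ₗ[ZMod q] V) = W (σ i))
  (heq : Equal ρ)

include hρ htop hind hstab hidx hperm heq

omit hρ htop hstab hidx hperm heq in
theorem eq_zero_of_mem {i j : Fin p} (h : i ≠ j) {v : V} (hi : v ∈ W i) (hj : v ∈ W j) : v = 0 :=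
  Submodule.disjoint_def.1 (hind.pairwiseDisjoint h) v hi hj

omit hρ heq in
theorem ne_bot_all (i : Fin p) : W i ≠ ⊥ := by
  intro hi
  obtain ⟨g, hg⟩ : ∃ g, g ∉ H := by
    by_contra! h
    have : H = ⊤ := eq_top_iff.2 fun g _ => h g
    rw [this, index_top] at hidx
    exact hp.out.ne_one hidx.symm
  obtain ⟨σ, hσ, hmap⟩ := hperm g hg
  have hall : ∀ j, W j = ⊥ := fun j => by
    obtain ⟨k, rfl⟩ := (perm_move hp.out σ hσ).2 i j
    induction k with
    | zero => simpa using hi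
    | succ k ih => rw [pow_succ', Equiv.Perm.mul_apply, ← hmap, ih, Submodule.map_bot]
  rw [iSup_eq_bot.2 hall] at htop
  exact bot_ne_top htop

omit htop heq hidx hρ in
theorem st_le {i : Fin p} {w : V} (hw : w ∈ W i) (hw0 : w ≠ 0) : st ρ w ≤ H := by
  intro g hg
  by_contra hgH
  obtain ⟨σ, hσ, hmap⟩ := hperm g hgH
  refine hw0 (eq_zero_of_mem hind ((perm_move hp.out σ hσ).1 i) ?_ hw)
  rw [← hmap]
  exact ⟨w, hw, hg⟩

omit htop heq hidx hρ hperm in
theorem fix_pair {i j : Fin p} (hij : i ≠ j) {h : G} (hh : h ∈ H) {w1 w2 : V} (h1 : w1 ∈ W i) (h2 : w2 ∈ W j)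
    (hfix : ρ h (w1 + w2) = w1 + w2) : ρ h w1 = w1 ∧ ρ h w2 = w2 := by
  rw [map_add] at hfix
  have e : ρ h w1 - w1 = w2 - ρ h w2 := sub_eq_sub_iff_add_eq_add.2 (by rw [hfix, add_comm])
  have h3 : ρ h w1 - w1 = 0 := eq_zero_of_mem hind hij ((W i).sub_mem (hstab h hh i w1 h1) h1)
    (e ▸ (W j).sub_mem h2 (hstab h hh j w2 h2))
  exact ⟨sub_eq_zero.1 h3, (sub_eq_zero.1 (e.symm.trans h3)).symm⟩

omit hidx hρ htop in
theorem swap_or_eq {i j : Fin p} (hij : i ≠ j) {w1 w2 : V} (h1 : w1 ∈ W i) (h10 : w1 ≠ 0) (h2 : w2 ∈ W j)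
    (h20 : w2 ≠ 0) :
    st ρ w1 = st ρ w2 ∨ (p = 2 ∧ ∃ g, g ∉ H ∧ ρ g w1 = w2 ∧ ρ g w2 = w1) := by
  have hne : w1 + w2 ≠ 0 := fun e => h10 (eq_zero_of_mem hind hij h1 (eq_neg_of_add_eq_zero_left e ▸ (W j).neg_mem h2))
  by_cases hle : st ρ (w1 + w2) ≤ H
  · left
    have hle' : st ρ (w1 + w2) ≤ st ρ w1 ⊓ st ρ w2 := fun g hg => fix_pair ρ hind hstab hij (hle hg) h1 h2 hg
    have e1 := eq_of_le_of_card_ge (hle'.trans inf_le_left) (heq w1 _ h10 hne).le
    have e2 := eq_of_le_of_card_ge (hle'.trans inf_le_right) (heq w2 _ h20 hne).le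
    exact e1.symm.trans e2
  right
  obtain ⟨g, hg, hgH⟩ := SetLike.not_le_iff_exists.1 hle
  obtain ⟨σ, hσ, hmap⟩ := hperm g hgH
  obtain ⟨hmv, -⟩ := perm_move hp.out σ hσ
  have m1 : ρ g w1 ∈ W (σ i) := hmap i ▸ ⟨w1, h1, rfl⟩
  have m2 : ρ g w2 ∈ W (σ j) := hmap j ▸ ⟨w2, h2, rfl⟩
  have hfix : ρ g w1 + ρ g w2 = w1 + w2 := by rw [← map_add]; exact hg
  have key : ∀ {a b : Fin p} {u v u' v' : V}, a ≠ b → u ∈ W a → u ≠ 0 → v ∈ W b → u' ∈ W (σ a) → v' ∈ W (σ b) →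
      u' + v' = u + v → σ b = a := by
    intro a b u v u' v' hab hu hu0 hv hu' hv' e
    by_contra hne
    refine hu0 (Submodule.disjoint_def.1 (hind a) u hu ?_)
    rw [show u = u' + v' - v by rw [e, add_sub_cancel_right]]
    exact Submodule.sub_mem _ (Submodule.add_mem _
      (le_iSup₂ (f := fun k (_ : k ≠ a) => W k) (σ a) (hmv a) hu')
      (le_iSup₂ (f := fun k (_ : k ≠ a) => W k) (σ b) hne hv'))
      (le_iSup₂ (f := fun k (_ : k ≠ a) => W k) b hab.symm hv)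
  have hji : σ j = i := key hij h1 h10 h2 m1 m2 hfix
  have hij' : σ i = j := key hij.symm h2 h20 h1 m2 m1 (by rw [add_comm, hfix, add_comm])
  refine ⟨?_, g, hgH, ?_, ?_⟩
  · by_contra hp2
    have ho : orderOf (σ ^ 2) = p := by
      rw [orderOf_pow' σ two_ne_zero, hσ,
        Nat.coprime_iff_gcd_eq_one.1 ((Nat.coprime_primes hp.out Nat.prime_two).2 hp2), Nat.div_one]
    exact (perm_move hp.out _ ho).1 i (by rw [sq, Equiv.Perm.mul_apply, hij', hji])
  · rw [hij'] at m1; rw [hji] at m2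
    have e : ρ g w1 - w2 = w1 - ρ g w2 := sub_eq_sub_iff_add_eq_add.2 hfix
    exact sub_eq_zero.1 (eq_zero_of_mem hind hij.symm ((W j).sub_mem m1 h2) (e ▸ (W i).sub_mem h1 m2))
  · rw [hij'] at m1; rw [hji] at m2
    have e : ρ g w2 - w1 = w2 - ρ g w1 := sub_eq_sub_iff_add_eq_add.2 (by rw [add_comm, hfix, add_comm])
    exact sub_eq_zero.1 (eq_zero_of_mem hind hij ((W i).sub_mem m2 h1) (e ▸ (W j).sub_mem h2 m1))

/-- If all vectors in the pieces share a stabiliser, the group is semiregular. -/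
theorem semiReg_of_const {i : Fin p} {w0 : V} (hw0 : w0 ∈ W i) (hw00 : w0 ≠ 0)
    (h : ∀ k, ∀ w ∈ W k, ∀ g ∈ st ρ w0, ρ g w = w) :
    SemiReg ρ := by
  refine semiReg_of_bot ρ heq hw00 (eq_bot_iff.2 fun g hg => mem_bot.2 (trivial_of_fix_all ρ hρ fun v => ?_))
  have hle : iSup W ≤ LinearMap.eqLocus (ρ g : V →ₗ[ZMod q] V) LinearMap.id :=
    iSup_le fun k w hw => h k w hw g hg
  exact hle (htop ▸ Submodule.mem_top (x := v))

theorem odd_case (hp2 : p ≠ 2) : SemiReg ρ := by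
  have hp3 : 2 < p := by have := hp.out.two_le; omega
  let i : Fin p := ⟨0, by omega⟩
  obtain ⟨w0, hw0, hw00⟩ := (W i).exists_mem_ne_zero_of_ne_bot (ne_bot_all ρ htop hind hstab hidx hperm i)
  refine semiReg_of_const ρ hρ htop hind hstab hidx hperm heq hw0 hw00 fun k w hw g hg => ?_
  by_cases hwz : w = 0
  · rw [hwz, map_zero]
  have hsame : ∀ {a b : Fin p} {u v : V}, a ≠ b → u ∈ W a → u ≠ 0 → v ∈ W b → v ≠ 0 → st ρ u = st ρ v :=
    fun hab hu hu0 hv hv0 => (swap_or_eq ρ hind hstab hperm heq hab hu hu0 hv hv0).resolve_right fun h => hp2 h.1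
  have e : st ρ w0 = st ρ w := by
    by_cases hki : k = i
    · subst hki
      let j : Fin p := ⟨1, by omega⟩
      have hij : i ≠ j := by simp [i, j, Fin.ext_iff]
      obtain ⟨u, hu, hu0⟩ := (W j).exists_mem_ne_zero_of_ne_bot (ne_bot_all ρ htop hind hstab hidx hperm j)
      exact (hsame hij hw0 hw00 hu hu0).trans (hsame hij hw hwz hu hu0).symm
    · exact hsame (Ne.symm hki) hw0 hw00 hw hwz
  exact (mem_st ρ).1 (e ▸ hg)

theorem two_case (hn : ¬ SemiReg ρ) (hG : IsPGroup p G) (hp2 : p = 2) (hodd : Odd q) :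
    (Nat.card V = 81 ∧ q = 3) ∨ (Nat.card V = q ^ 2 ∧ (∃ m : ℕ, q = 2 ^ m + 1) ∧
      ∃ e : V ≃ₗ[ZMod q] (Fin 2 → ZMod q), ∀ f : (Fin 2 → ZMod q) ≃ₗ[ZMod q] (Fin 2 → ZMod q),
        (∃ g : G, f = e.symm.trans ((ρ g).trans e)) ↔
        ∃ a s : ZMod q, a ≠ 0 ∧ (s = 1 ∨ s = -1) ∧
          ((∀ v, f v = ![a * v 0, s * a⁻¹ * v 1]) ∨ (∀ v, f v = ![s * a⁻¹ * v 1, a * v 0]))) := by
  classical
  subst hp2
  haveI : Module.Finite (ZMod q) V := Module.Finite.of_finite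
  obtain ⟨g1, hg1⟩ : ∃ g, g ∉ H := by
    by_contra! h
    rw [show H = ⊤ from eq_top_iff.2 fun g _ => h g, index_top] at hidx
    norm_num at hidx
  have hswap : ∀ g ∉ H, ∀ i j : Fin 2, i ≠ j → (W i).map (ρ g : V →ₗ[ZMod q] V) = W j := by
    intro g hg i j hij
    obtain ⟨σ, hσ, hmap⟩ := hperm g hg
    have h1 := (perm_move hp.out σ hσ).1 i
    rw [hmap]
    congr 1
    omega
  have hcompl : IsCompl (W 0) (W 1) := by
    refine ⟨hind.pairwiseDisjoint (by decide : (0 : Fin 2) ≠ 1), codisjoint_iff.2 (eq_top_iff.2 ?_)⟩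
    rw [← htop]
    refine iSup_le fun i => ?_
    fin_cases i
    · exact le_sup_left
    · exact le_sup_right
  obtain ⟨u0, hu0, hu00⟩ := (W 0).exists_mem_ne_zero_of_ne_bot (ne_bot_all ρ htop hind hstab hidx hperm 0)
  set S := st ρ u0 with hS
  have hSH : S ≤ H := st_le ρ hind hstab hperm hu0 hu00
  -- the vectors of the other piece fixed by this stabiliser
  let U : Submodule (ZMod q) V :=
    { carrier := {w | w ∈ W 1 ∧ ∀ s ∈ S, ρ s w = w}
      zero_mem' := ⟨zero_mem _, fun s _ => map_zero _⟩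
      add_mem' := fun {x y} hx hy => ⟨add_mem hx.1 hy.1, fun s hs => by rw [map_add, hx.2 s hs, hy.2 s hs]⟩
      smul_mem' := fun c x hx => ⟨(W 1).smul_mem c hx.1, fun s hs => by rw [map_smul, hx.2 s hs]⟩ }
  have hUlt : U < W 1 := by
    refine lt_of_le_of_ne (fun w hw => hw.1) fun e => hn ?_
    have hall : ∀ w ∈ W 1, w ≠ 0 → st ρ w = S := fun w hw hw0 => (eq_of_le_of_card_ge
      (fun s hs => (e.ge hw : w ∈ U).2 s hs : S ≤ st ρ w) (heq w u0 hw0 hu00).le).symm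
    refine semiReg_of_const ρ hρ htop hind hstab hidx hperm heq hu0 hu00 fun k w hw g hg => ?_
    fin_cases k
    · -- transported from the other piece
      by_cases hw0 : w = 0
      · rw [hw0, map_zero]
      have hmem : ∀ w ∈ W 0, ρ g1 w ∈ W 1 := fun w hw => hswap g1 hg1 0 1 (by decide) ▸ ⟨w, hw, rfl⟩
      have hconj : ∀ w ∈ W 0, w ≠ 0 → ∀ s, ρ s w = w ↔ g1 * s * g1⁻¹ ∈ S := by
        intro w hw hw0 s
        rw [← hall _ (hmem w hw) (by simpa using hw0), mem_st, ← act_mul, inv_mul_cancel_right, act_mul]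
        exact ((ρ g1).injective.eq_iff).symm
      exact (hconj w hw hw0 g).2 ((hconj u0 hu0 hu00 g).1 hg)
    · exact (e.ge hw : w ∈ U).2 g hg
  -- one orbit outside
  letI : MulAction H {w : V // w ∈ W 1 ∧ w ≠ 0} :=
    { smul := fun h w => ⟨ρ (h : G) w, hstab h h.2 1 w w.2.1, by simpa using w.2.2⟩
      one_smul := fun w => Subtype.ext (by show ρ ((1 : H) : G) w = w; simp)
      mul_smul := fun x y w => Subtype.ext (by
        show ρ ((x * y : H) : G) w = ρ (x : G) (ρ (y : G) w)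
        simp) }
  have horbit : ∀ w : {w : V // w ∈ W 1 ∧ w ≠ 0},
      Nat.card (MulAction.orbit H w) * Nat.card S = Nat.card H := by
    intro w
    have hst : MulAction.stabilizer H w = (st ρ (w : V)).subgroupOf H := by
      ext h
      rw [MulAction.mem_stabilizer_iff, mem_subgroupOf, mem_st, Subtype.ext_iff]
      rfl
    rw [Nat.card_coe_set_eq, ← MulAction.index_stabilizer, hst, hS, heq u0 w hu00 w.2.2,
      ← Nat.card_congr (subgroupOfEquivOfLe (st_le ρ hind hstab hperm w.2.1 w.2.2)).toEquiv, mul_comm]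
    exact card_mul_index _
  obtain ⟨w1, hw1, hw1U⟩ := SetLike.exists_of_lt hUlt
  have hout : ∀ w ∈ W 1, w ∉ U → ∃ g, g ∉ H ∧ ρ g u0 = w ∧ ρ g w = u0 := by
    intro w hw hwU
    have hw0 : w ≠ 0 := fun e => hwU (e ▸ U.zero_mem)
    rcases swap_or_eq ρ hind hstab hperm heq (by decide : (0 : Fin 2) ≠ 1) hu0 hu00 hw hw0 with h | ⟨-, h⟩
    · exact absurd ⟨hw, fun s hs => (mem_st ρ).1 (h ▸ hs)⟩ hwU
    · exact h
  obtain ⟨g0, hg0, hg0u, -⟩ := hout w1 hw1 hw1U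
  have hw10 : w1 ≠ 0 := fun e => hw1U (e ▸ U.zero_mem)
  set O := MulAction.orbit H (⟨w1, hw1, hw10⟩ : {w : V // w ∈ W 1 ∧ w ≠ 0}) with hO
  have hsub : ∀ w : {w : V // w ∈ W 1 ∧ w ≠ 0}, (w : V) ∉ U → w ∈ O := by
    intro w hwU
    obtain ⟨g, hg, hgu, -⟩ := hout w w.2.1 hwU
    refine ⟨⟨g * g0⁻¹, (Subgroup.mul_mem_iff_of_index_two hidx).2 ⟨fun h => absurd h hg,
      fun h => absurd (inv_mem_iff.1 h) hg0⟩⟩, Subtype.ext ?_⟩
    show ρ (g * g0⁻¹) w1 = (w : V)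
    rw [← hg0u, ← act_mul, inv_mul_cancel_right, hgu]
  set r := Module.finrank (ZMod q) (W 1) with hr
  have hWcard : Nat.card (W 1) = q ^ r := by rw [Module.natCard_eq_pow_finrank (K := ZMod q), Nat.card_zmod]
  have hX : Nat.card {w : V // w ∈ W 1 ∧ w ≠ 0} = q ^ r - 1 := by
    rw [← hWcard]
    have h1 : Nat.card {w : V // w ∈ W 1 ∧ w ≠ 0} = ((W 1 : Set V) \ {0}).ncard := by
      rw [← Nat.card_coe_set_eq]; rfl
    rw [h1, Set.ncard_sdiff_singleton_of_mem (zero_mem (W 1)), ← Nat.card_coe_set_eq]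
    rfl
  have hr0 : 0 < r := by
    rw [hr]
    exact Nat.pos_of_ne_zero fun e => (ne_bot_all ρ htop hind hstab hidx hperm 1) (Submodule.finrank_eq_zero.1 e)
  -- the orbit is everything
  obtain ⟨s, hs⟩ : ∃ s, Nat.card O = 2 ^ s := by
    obtain ⟨n, hn'⟩ := IsPGroup.iff_card.1 (hG.to_subgroup H)
    have : Nat.card O ∣ 2 ^ n := hn' ▸ (horbit _ ▸ dvd_mul_right _ _)
    obtain ⟨s, -, hs⟩ := (Nat.dvd_prime_pow Nat.prime_two).1 this
    exact ⟨s, hs⟩
  have hdiv : 2 ^ s ∣ q ^ r - 1 := by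
    haveI : Fintype (MulAction.orbitRel.Quotient H {w : V // w ∈ W 1 ∧ w ≠ 0}) := Fintype.ofFinite _
    rw [← hX, Nat.card_congr (MulAction.selfEquivSigmaOrbits H {w : V // w ∈ W 1 ∧ w ≠ 0}), Nat.card_sigma]
    refine Finset.dvd_sum fun ω _ => dvd_of_eq (hs ▸ ?_)
    exact Nat.eq_of_mul_eq_mul_right Nat.card_pos ((horbit _).trans (horbit _).symm)
  have hlow : q ^ r - q ^ (r - 1) ≤ 2 ^ s := by
    have hUc : Nat.card U ≤ q ^ (r - 1) := by
      rw [Module.natCard_eq_pow_finrank (K := ZMod q), Nat.card_zmod]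
      refine Nat.pow_le_pow_right hq.out.pos ?_
      have := Submodule.finrank_lt_finrank_of_lt hUlt
      omega
    have h1 : ((W 1 : Set V) \ U).ncard ≤ Nat.card O := by
      rw [Nat.card_coe_set_eq, ← Set.ncard_image_of_injective O Subtype.val_injective]
      refine Set.ncard_le_ncard (fun w hw => ?_) (Set.toFinite _)
      have hw0 : w ≠ 0 := fun e => hw.2 (e ▸ U.zero_mem)
      exact ⟨⟨w, hw.1, hw0⟩, hsub ⟨w, hw.1, hw0⟩ hw.2, rfl⟩
    have h2 := Set.ncard_sdiff (show (U : Set V) ⊆ W 1 from fun w hw => hw.1)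
    rw [h2, ← Nat.card_coe_set_eq, ← Nat.card_coe_set_eq] at h1
    rw [show Nat.card ((W 1 : Set V) : Type _) = Nat.card (W 1) from rfl,
      show Nat.card ((U : Set V) : Type _) = Nat.card U from rfl, hWcard, hs] at h1
    omega
  have hfull : 2 ^ s = q ^ r - 1 := by
    obtain ⟨c, hc⟩ := hdiv
    have h3 : 3 ≤ q := by obtain ⟨v, rfl⟩ := hodd; have := hq.out.two_le; omega
    have h4 : q ^ (r - 1) * q = q ^ r := by rw [← pow_succ, Nat.sub_add_cancel hr0]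
    have h5 : q ^ (r - 1) * 3 ≤ q ^ r := h4 ▸ Nat.mul_le_mul_left _ h3
    have h6 : 1 ≤ q ^ (r - 1) := Nat.one_le_pow _ _ (by omega)
    rcases c with _ | _ | c
    · omega
    · omega
    · exfalso
      have h7 : 2 ^ s * 2 ≤ 2 ^ s * (c + 1 + 1) := Nat.mul_le_mul_left _ (by omega)
      omega
  have hVcard : Nat.card V = q ^ r * q ^ r := by
    rw [← Nat.card_congr (Submodule.prodEquivOfIsCompl _ _ hcompl).toEquiv, Nat.card_prod, hWcard]
    congr 1
    rw [← hWcard, ← hswap g1 hg1 0 1 (by decide)]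
    exact Nat.card_congr ((ρ g1).submoduleMap (W 0)).toEquiv
  rcases pred_two_pow hq.out.one_lt hodd hfull.symm hr0 with hr1 | ⟨hq3, hr2⟩
  swap
  · exact Or.inl ⟨by rw [hVcard, hq3, hr2]; norm_num, hq3⟩
  right
  rw [hr1, pow_one] at hVcard hfull
  refine ⟨by rw [hVcard, sq], ⟨s, by have := hq.out.one_le; omega⟩, ?_⟩
  set u1 := ρ g0 u0 with hu1
  have hu1m : u1 ∈ W 1 := by rw [hg0u]; exact hw1
  have hu10 : u1 ≠ 0 := by rw [hg0u]; exact hw10
  have hspan1 : ∀ w ∈ W 1, ∃ c : ZMod q, c • u1 = w := fun w hw => by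
    obtain ⟨c, hc⟩ := (finrank_eq_one_iff_of_nonzero' (⟨u1, hu1m⟩ : W 1) (by simpa using hu10)).1 hr1 ⟨w, hw⟩
    exact ⟨c, congrArg Subtype.val hc⟩
  have hspan0 : ∀ w ∈ W 0, ∃ c : ZMod q, c • u0 = w := fun w hw => by
    obtain ⟨c, hc⟩ := hspan1 (ρ g0 w) (hswap g0 hg0 0 1 (by decide) ▸ ⟨w, hw, rfl⟩)
    exact ⟨c, (ρ g0).injective (by rw [map_smul]; exact hc)⟩
  let ψ : (Fin 2 → ZMod q) →ₗ[ZMod q] V :=
    (LinearMap.proj 0).smulRight u0 + (LinearMap.proj 1).smulRight u1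
  have hψ : ∀ c, ψ c = c 0 • u0 + c 1 • u1 := fun c => rfl
  have hψb : Function.Bijective ψ := by
    refine ⟨(injective_iff_map_eq_zero ψ).2 fun c hc => ?_, fun v => ?_⟩
    · rw [hψ] at hc
      have h1 : c 0 • u0 = 0 := eq_zero_of_mem hind (by decide : (0 : Fin 2) ≠ 1) ((W 0).smul_mem _ hu0)
        (eq_neg_of_add_eq_zero_left hc ▸ (W 1).neg_mem ((W 1).smul_mem _ hu1m))
      rw [h1, zero_add] at hc
      refine funext fun i => ?_
      fin_cases i
      · exact (smul_eq_zero.1 h1).resolve_right hu00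
      · exact (smul_eq_zero.1 hc).resolve_right hu10
    · obtain ⟨x, hx, y, hy, rfl⟩ := Submodule.mem_sup.1 (hcompl.sup_eq_top.ge (Submodule.mem_top (x := v)))
      obtain ⟨a, rfl⟩ := hspan0 x hx
      obtain ⟨b, rfl⟩ := hspan1 y hy
      exact ⟨![a, b], by simp [hψ]⟩
  let e := (LinearEquiv.ofBijective ψ hψb).symm
  have hse : ∀ c, e.symm c = ψ c := fun c => rfl
  -- the diagonal part
  have hdiag : ∀ h ∈ H, ∃ a b : ZMod q, ρ h u0 = a • u0 ∧ ρ h u1 = b • u1 ∧ a ≠ 0 ∧ b ≠ 0 := by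
    intro h hh
    obtain ⟨a, ha⟩ := hspan0 _ (hstab h hh 0 u0 hu0)
    obtain ⟨b, hb⟩ := hspan1 _ (hstab h hh 1 u1 hu1m)
    refine ⟨a, b, ha.symm, hb.symm, fun e => hu00 ?_, fun e => hu10 ?_⟩
    · rw [e, zero_smul] at ha; exact (ρ h).injective (ha.symm.trans (map_zero _).symm)
    · rw [e, zero_smul] at hb; exact (ρ h).injective (hb.symm.trans (map_zero _).symm)
  obtain ⟨κ, hκ⟩ : ∃ κ : ZMod q, κ • u0 = ρ g0 u1 :=
    hspan0 _ (hswap g0 hg0 1 0 (by decide) ▸ ⟨u1, hu1m, rfl⟩)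
  have hκ0 : κ ≠ 0 := fun e => hu10 ((ρ g0).injective (by rw [← hκ, e, zero_smul, map_zero]))
  have hU0 : ∀ w ∈ W 1, w ≠ 0 → w ∉ U := by
    intro w hw hw0 hwU
    obtain ⟨c, hc⟩ := hspan1 w hw
    have : c⁻¹ • w ∈ U := U.smul_mem _ hwU
    rw [← hc, smul_smul, inv_mul_cancel₀ (fun e => hw0 (by rw [← hc, e, zero_smul])), one_smul, hg0u] at this
    exact hw1U this
  have hfill : ∀ a : ZMod q, a ≠ 0 → ∃ h ∈ H, ρ h u0 = a • u0 ∧ ρ h u1 = (a⁻¹ * κ⁻¹) • u1 := by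
    intro a ha
    have hy0 : a • u1 ≠ 0 := smul_ne_zero ha hu10
    obtain ⟨g, hg, hgu, hgy⟩ := hout _ ((W 1).smul_mem a hu1m) (hU0 _ ((W 1).smul_mem a hu1m) hy0)
    have hh : g0⁻¹ * g ∈ H :=
      (Subgroup.mul_mem_iff_of_index_two hidx).2 ⟨fun h => absurd (inv_mem_iff.1 h) hg0, fun h => absurd h hg⟩
    refine ⟨_, hh, (ρ g0).injective ?_, (ρ g0).injective ?_⟩
    · rw [← act_mul, mul_inv_cancel_left, hgu, map_smul]
    · rw [← act_mul, mul_inv_cancel_left, map_smul, ← hκ]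
      rw [map_smul] at hgy
      rw [← inv_smul_smul₀ ha (ρ g u1), hgy, smul_smul, mul_assoc, inv_mul_cancel₀ hκ0, mul_one]
  -- the kernel of the first coordinate
  obtain ⟨h1, hh1, hh1S⟩ : ∃ h, h ∈ S ∧ h ≠ 1 := by
    obtain ⟨⟨h, hh⟩, hne⟩ := Subgroup.ne_bot_iff_exists_ne_one.1 (card_two_of_not ρ heq hn hu00)
    exact ⟨h, hh, fun e => hne (Subtype.ext e)⟩
  have hScard : Nat.card S = 2 := by
    have hne : u0 + u1 ≠ 0 := fun e => hu00 (eq_zero_of_mem hind (by decide : (0 : Fin 2) ≠ 1) hu0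
      (eq_neg_of_add_eq_zero_left e ▸ (W 1).neg_mem hu1m))
    have hbot : st ρ (u0 + u1) ⊓ H = ⊥ := eq_bot_iff.2 fun h hh => by
      obtain ⟨e0, e1⟩ := fix_pair ρ hind hstab (by decide : (0 : Fin 2) ≠ 1) hh.2 hu0 hu1m hh.1
      refine mem_bot.2 (trivial_of_fix_all ρ hρ fun v => ?_)
      obtain ⟨c, rfl⟩ := hψb.2 v
      rw [hψ, map_add, map_smul, map_smul, e0, e1]
    have hle : Nat.card (st ρ (u0 + u1)) ∣ 2 := by
      haveI : H.Normal := Subgroup.normal_of_index_eq_two hidx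
      rw [← hidx, ← relIndex_bot_left, ← hbot, inf_comm, inf_relIndex_right]
      exact relIndex_dvd_index_of_normal H _
    rw [heq u0 _ hu00 hne]
    rcases (Nat.dvd_prime Nat.prime_two).1 hle with h | h
    · exact absurd (card_eq_one.1 h) (card_two_of_not ρ heq hn hne)
    · exact h
  have hS2 : ∀ h ∈ S, h = 1 ∨ h = h1 := by
    intro h hh
    by_contra! hne
    haveI : Fintype S := Fintype.ofFinite S
    have h3 : ({⟨1, one_mem S⟩, ⟨h, hh⟩, ⟨h1, hh1⟩} : Finset S).card = 3 := by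
      rw [Finset.card_insert_of_notMem (by simp [Subtype.ext_iff, Ne.symm hne.1, Ne.symm hh1S]),
        Finset.card_pair (by simp [Subtype.ext_iff, hne.2])]
    have := Finset.card_le_univ ({⟨1, one_mem S⟩, ⟨h, hh⟩, ⟨h1, hh1⟩} : Finset S)
    rw [h3, ← Nat.card_eq_fintype_card, hScard] at this
    omega
  have hext : ∀ x y : G, ρ x u0 = ρ y u0 → ρ x u1 = ρ y u1 → x = y := fun x y e0 e1 =>
    hρ (LinearEquiv.ext fun v => by
      obtain ⟨c, rfl⟩ := hψb.2 v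
      rw [hψ, map_add, map_add, map_smul, map_smul, map_smul, map_smul, e0, e1])
  have h1u1 : ρ h1 u1 = (-1 : ZMod q) • u1 := by
    obtain ⟨a, b, ha, hb, -, -⟩ := hdiag h1 (hSH hh1)
    have hb2 : b * b = 1 := by
      have h2 : h1 * h1 = 1 := by
        rcases hS2 _ (S.mul_mem hh1 hh1) with h | h
        · exact h
        · exact absurd (mul_left_cancel (h.trans (mul_one h1).symm)) hh1S
      have := congrArg (fun x => ρ x u1) h2
      simp only [act_mul, act_one, hb, map_smul, smul_smul] at this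
      exact sub_eq_zero.1 ((smul_eq_zero.1 (show (b * b - 1) • u1 = 0 by
        rw [sub_smul, one_smul, this, sub_self])).resolve_right hu10)
    rcases mul_self_eq_one_iff.1 hb2 with rfl | rfl
    · refine absurd (hext h1 1 ?_ ?_) hh1S
      · rw [act_one]; exact hh1
      · rw [act_one, hb, one_smul]
    · exact hb
  have hκ1 : κ⁻¹ = 1 ∨ κ⁻¹ = -1 := by
    obtain ⟨h, hh, e0, e1⟩ := hfill 1 one_ne_zero
    rw [inv_one, one_mul] at e1
    rw [one_smul] at e0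
    rcases hS2 h e0 with rfl | rfl
    · rw [act_one] at e1
      left
      exact (smul_left_injective (ZMod q) hu10 (e1.symm.trans (one_smul _ _).symm))
    · right
      exact smul_left_injective (ZMod q) hu10 (e1.symm.trans h1u1)
  have hHmem : ∀ a s : ZMod q, a ≠ 0 → (s = 1 ∨ s = -1) → ∃ h ∈ H, ρ h u0 = a • u0 ∧ ρ h u1 = (s * a⁻¹) • u1 := by
    intro a s ha hs
    obtain ⟨h, hh, e0, e1⟩ := hfill a ha
    by_cases hsk : s = κ⁻¹
    · exact ⟨h, hh, e0, by rw [e1, hsk, mul_comm]⟩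
    · refine ⟨h * h1, H.mul_mem hh (hSH hh1), by rw [act_mul, (mem_st ρ).1 hh1, e0], ?_⟩
      rw [act_mul, h1u1, map_smul, e1, smul_smul]
      congr 1
      rcases hs with rfl | rfl <;> rcases hκ1 with hk | hk
      · exact absurd hk.symm hsk
      · rw [hk]; ring
      · rw [hk]; ring
      · exact absurd hk.symm hsk
  have hHonly : ∀ h ∈ H, ∃ a s : ZMod q, a ≠ 0 ∧ (s = 1 ∨ s = -1) ∧ ρ h u0 = a • u0 ∧ ρ h u1 = (s * a⁻¹) • u1 := by
    intro h hh
    obtain ⟨a, b, ha, hb, ha0, -⟩ := hdiag h hh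
    obtain ⟨h', hh', e0, e1⟩ := hHmem a 1 ha0 (Or.inl rfl)
    rw [one_mul] at e1
    have : h'⁻¹ * h ∈ S := (mem_st ρ).2 (by
      apply (ρ h').injective
      rw [← act_mul, mul_inv_cancel_left, ha, e0])
    rcases hS2 _ this with e | e
    · obtain rfl : h' = h := inv_mul_eq_one.1 e
      exact ⟨a, 1, ha0, Or.inl rfl, e0, by rw [one_mul]; exact e1⟩
    · refine ⟨a, -1, ha0, Or.inr rfl, ha, ?_⟩
      rw [show h = h' * h1 by rw [← e, mul_inv_cancel_left], act_mul, h1u1, map_smul, e1, smul_smul]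
  have hκκ : κ = 1 ∨ κ = -1 := by
    rcases hκ1 with h | h
    · exact Or.inl (inv_eq_one.1 h)
    · exact Or.inr (by rw [← inv_inv κ, h, inv_neg, inv_one])
  -- conversion
  have hconv : ∀ (f : (Fin 2 → ZMod q) ≃ₗ[ZMod q] (Fin 2 → ZMod q)) (g : G),
      f = e.symm.trans ((ρ g).trans e) ↔ ∀ c, ψ (f c) = ρ g (ψ c) := by
    intro f g
    constructor
    · rintro rfl c
      show ψ (e (ρ g (e.symm c))) = _
      rw [← hse, e.symm_apply_apply, hse]
    · intro h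
      refine LinearEquiv.ext fun c => e.symm.injective ?_
      show ψ (f c) = e.symm (e (ρ g (e.symm c)))
      rw [e.symm_apply_apply, hse, h]
  refine ⟨e, fun f => ⟨?_, ?_⟩⟩
  · rintro ⟨g, hg⟩
    rw [hconv] at hg
    by_cases hgH : g ∈ H
    · obtain ⟨a, s, ha, hs, e0, e1⟩ := hHonly g hgH
      refine ⟨a, s, ha, hs, Or.inl fun v => hψb.1 ?_⟩
      rw [hg, hψ, hψ, map_add, map_smul, map_smul, e0, e1]
      simp only [Matrix.cons_val_zero, Matrix.cons_val_one, smul_smul]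
      ring_nf
    · have hh : g0⁻¹ * g ∈ H :=
        (Subgroup.mul_mem_iff_of_index_two hidx).2 ⟨fun h => absurd (inv_mem_iff.1 h) hg0, fun h => absurd h hgH⟩
      obtain ⟨a, s, ha, hs, e0, e1⟩ := hHonly _ hh
      refine ⟨a, s * κ, ha, ?_, Or.inr fun v => hψb.1 ?_⟩
      · rcases hs with rfl | rfl <;> rcases hκκ with hk | hk <;> simp [hk]
      · have hga : ∀ w, ρ g w = ρ g0 (ρ (g0⁻¹ * g) w) := fun w => by rw [← act_mul, mul_inv_cancel_left]
        rw [hg, hψ, hψ, map_add, map_smul, map_smul, hga, hga, e0, e1, map_smul, map_smul, ← hκ]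
        simp only [Matrix.cons_val_zero, Matrix.cons_val_one, smul_smul]
        rw [add_comm, ← hu1]
        ring_nf
  · rintro ⟨a, s, ha, hs, hf | hf⟩
    · obtain ⟨h, -, e0, e1⟩ := hHmem a s ha hs
      refine ⟨h, (hconv f h).2 fun v => ?_⟩
      rw [hf, hψ, hψ, map_add, map_smul, map_smul, e0, e1]
      simp only [Matrix.cons_val_zero, Matrix.cons_val_one, smul_smul]
      ring_nf
    · obtain ⟨h, -, e0, e1⟩ := hHmem a (s * κ⁻¹) ha (by
        rcases hs with rfl | rfl <;> rcases hκ1 with hk | hk <;> simp [hk])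
      refine ⟨g0 * h, (hconv f _).2 fun v => ?_⟩
      rw [hf, hψ, hψ, map_add, map_smul, map_smul, act_mul, act_mul, e0, e1, map_smul, map_smul, ← hκ]
      simp only [Matrix.cons_val_zero, Matrix.cons_val_one, smul_smul]
      rw [add_comm]
      congr 2
      · rw [mul_comm]
      · field_simp

end Cfsg.Agent.HalfTrans3371
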