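import Cfsg.Agent.HalfTrans3371.Dihedral
import Cfsg.Agent.HalfTrans3371.Monomial
import Cfsg.Agent.S3380

/-!
Half-transitive linear `p`-groups: assembly.
-/

set_option autoImplicit false

namespace Cfsg.Agent.HalfTrans3371

open Subgroup

theorem comm_of_card_le_four {G : Type*} [Group G] [Finite G] {e : ℕ} (he : e < 2) (h : Nat.card G = 2 * 2 ^ e) :
    ∀ x y : G, x * y = y * x := by
  intro x y
  interval_cases e
  · haveI : Fact (Nat.Prime 2) := ⟨Nat.prime_two⟩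
    haveI : IsCyclic G := isCyclic_of_prime_card (p := 2) (by rw [h]; norm_num)
    letI := IsCyclic.commGroup (α := G)
    exact mul_comm x y
  · haveI : Fact (Nat.Prime 2) := ⟨Nat.prime_two⟩
    exact IsPGroup.commutative_of_card_eq_prime_sq (by rw [h]; norm_num : Nat.card G = 2 ^ 2) x y

theorem dihedral_data {G : Type*} [Group G] [Finite G] (hG : IsPGroup 2 G) {n : ℕ} (φ : G ≃* DihedralGroup n)
    (hnc : ¬ ∀ x y : G, x * y = y * x) :
    ∃ (e : ℕ) (a b : G), n = 2 ^ e ∧ 2 ≤ e ∧ orderOf a = 2 ^ e ∧ (zpowers a).index = 2 ∧ b ∉ zpowers a ∧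
      b * a * b⁻¹ = a ^ (2 ^ e - 1) ∧ b * b = 1 := by
  haveI : Fact (Nat.Prime 2) := ⟨Nat.prime_two⟩
  obtain ⟨j, hj⟩ := IsPGroup.iff_card.1 hG
  have hn : 2 * n = 2 ^ j := by rw [← hj, Nat.card_congr φ.toEquiv, DihedralGroup.nat_card]
  obtain ⟨e, -, rfl⟩ : ∃ e ≤ j, n = 2 ^ e :=
    (Nat.dvd_prime_pow Nat.prime_two).1 (Dvd.intro_left 2 hn)
  have he : 2 ≤ e := by
    by_contra h
    exact hnc (comm_of_card_le_four (e := e) (by omega)
      (by rw [Nat.card_congr φ.toEquiv, DihedralGroup.nat_card]))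
  haveI : NeZero (2 ^ e) := ⟨by positivity⟩
  have hoa : orderOf (φ.symm (DihedralGroup.r 1)) = 2 ^ e := by
    rw [φ.symm.orderOf_eq, DihedralGroup.orderOf_r_one]
  refine ⟨e, φ.symm (DihedralGroup.r 1), φ.symm (DihedralGroup.sr 0), rfl, he, hoa, ?_, ?_, ?_, ?_⟩
  · have := card_mul_index (zpowers (φ.symm (DihedralGroup.r 1)))
    rw [Nat.card_zpowers, hoa, Nat.card_congr φ.toEquiv, DihedralGroup.nat_card, mul_comm 2] at this
    exact Nat.eq_of_mul_eq_mul_left (by positivity) this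
  · rintro ⟨i, hi⟩
    have := congrArg φ hi
    simp only [map_zpow, MulEquiv.apply_symm_apply, DihedralGroup.r_one_zpow] at this
    exact DihedralGroup.noConfusion rfl (heq_of_eq this)
  · rw [← map_inv, ← map_mul, ← map_mul, ← map_pow]
    congr 1
    rw [DihedralGroup.r_one_pow, Nat.cast_sub Nat.one_le_two_pow, ZMod.natCast_self, Nat.cast_one,
      DihedralGroup.inv_sr, DihedralGroup.sr_mul_r, DihedralGroup.sr_mul_sr]
    simp
  · rw [← map_mul, DihedralGroup.sr_mul_self, map_one]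

theorem quaternion_data {G : Type*} [Group G] [Finite G] (hG : IsPGroup 2 G) {n : ℕ} (φ : G ≃* QuaternionGroup n)
    (hnc : ¬ ∀ x y : G, x * y = y * x) :
    ∃ (e : ℕ) (a b : G), 2 ≤ e ∧ orderOf a = 2 ^ e ∧ (zpowers a).index = 2 ∧ b ∉ zpowers a ∧
      b * a * b⁻¹ = a ^ (2 ^ e - 1) ∧ ∀ x : G, x ∉ zpowers a → x * x ≠ 1 := by
  haveI : Fact (Nat.Prime 2) := ⟨Nat.prime_two⟩
  obtain ⟨j, hj⟩ := IsPGroup.iff_card.1 hG
  have hn0 : n ≠ 0 := by
    rintro rfl
    have h1 : Nat.card G = 0 := by rw [Nat.card_congr φ.toEquiv, Nat.card_congr QuaternionGroup.quaternionGroupZeroEquivDihedralGroupZero.toEquiv, DihedralGroup.nat_card]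
    exact Nat.card_pos.ne' h1
  haveI : NeZero n := ⟨hn0⟩
  haveI : NeZero (2 * n) := ⟨by omega⟩
  have hcard : Nat.card G = 4 * n := by
    rw [Nat.card_congr φ.toEquiv, Nat.card_eq_fintype_card, QuaternionGroup.card]
  obtain ⟨e, -, he⟩ : ∃ e ≤ j, 2 * n = 2 ^ e :=
    (Nat.dvd_prime_pow Nat.prime_two).1 (Dvd.intro_left 2 (by omega : 2 * (2 * n) = 2 ^ j))
  have he2 : 2 ≤ e := by
    by_contra h
    exact hnc (comm_of_card_le_four (e := e) (by omega) (by rw [hcard, ← he]; ring))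
  have hoa : orderOf (φ.symm (QuaternionGroup.a 1)) = 2 ^ e := by
    rw [φ.symm.orderOf_eq, QuaternionGroup.orderOf_a_one, he]
  have hmem : ∀ i, φ.symm (QuaternionGroup.a i) ∈ zpowers (φ.symm (QuaternionGroup.a 1)) := fun i =>
    ⟨(i.val : ℤ), by
      show φ.symm (QuaternionGroup.a 1) ^ (i.val : ℤ) = _
      rw [zpow_natCast, ← map_pow, QuaternionGroup.a_one_pow, ZMod.natCast_zmod_val]⟩
  refine ⟨e, φ.symm (QuaternionGroup.a 1), φ.symm (QuaternionGroup.xa 0), he2, hoa, ?_, ?_, ?_, ?_⟩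
  · have := card_mul_index (zpowers (φ.symm (QuaternionGroup.a 1)))
    rw [Nat.card_zpowers, hoa, hcard, show 4 * n = 2 ^ e * 2 by rw [← he]; ring] at this
    exact Nat.eq_of_mul_eq_mul_left (by positivity) this
  · intro h
    obtain ⟨i, hi⟩ := (mem_powers_iff_mem_zpowers.2 h)
    have h1 : (φ.symm (QuaternionGroup.a 1)) ^ i = φ.symm (QuaternionGroup.xa 0) := hi
    have := congrArg φ h1
    simp only [map_pow, MulEquiv.apply_symm_apply, QuaternionGroup.a_one_pow] at this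
    exact QuaternionGroup.noConfusion rfl (heq_of_eq this)
  · rw [mul_inv_eq_iff_eq_mul, ← map_mul, ← map_pow, ← map_mul]
    congr 1
    rw [QuaternionGroup.a_one_pow, Nat.cast_sub Nat.one_le_two_pow, ← he, ZMod.natCast_self, Nat.cast_one]
    simp
  · intro x hx hx2
    rcases hφ : φ x with i | i
    · exact hx (by rw [← φ.symm_apply_apply x, hφ]; exact hmem i)
    · have h1 := congrArg φ hx2
      rw [map_mul, map_one, hφ, QuaternionGroup.xa_mul_xa] at h1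
      have h2 : ((n : ℕ) : ZMod (2 * n)) = 0 := by
        simpa using (QuaternionGroup.a.injEq _ _).mp h1
      rw [ZMod.natCast_eq_zero_iff] at h2
      have := Nat.le_of_dvd (Nat.pos_of_ne_zero hn0) h2
      omega

theorem semidihedral_data {G : Type*} [Group G] [Finite G] (h : Cfsg.IsQuasiDihedral G) :
    ∃ (e : ℕ) (a b : G), 3 ≤ e ∧ Nat.card G = 2 ^ (e + 1) ∧ orderOf a = 2 ^ e ∧ (zpowers a).index = 2 ∧
      b ∉ zpowers a ∧ b * a * b⁻¹ = a ^ (2 ^ (e - 1) - 1) ∧ b * b = 1 := by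
  obtain ⟨n, hn, hcard, x, y, hx, hy, hxy⟩ := h
  refine ⟨n, x, y, hn, hcard, hx, ?_, fun hmem => ?_, hxy, by rw [← sq, ← hy, pow_orderOf_eq_one]⟩
  · have := card_mul_index (zpowers x)
    rw [Nat.card_zpowers, hx, hcard, pow_succ] at this
    exact Nat.eq_of_mul_eq_mul_left (by positivity) this
  · obtain ⟨i, rfl⟩ := mem_zpowers_iff.1 hmem
    rw [((Commute.refl x).zpow_left i).eq, mul_inv_cancel_right] at hxy
    have h4 : 4 ≤ 2 ^ (n - 1) := by
      calc 4 = 2 ^ 2 := by norm_num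
        _ ≤ 2 ^ (n - 1) := Nat.pow_le_pow_right (by norm_num) (by omega)
    have h1 : x ^ (2 ^ (n - 1) - 2) = 1 := by
      rw [show 2 ^ (n - 1) - 1 = 2 ^ (n - 1) - 2 + 1 by omega, pow_succ] at hxy
      simpa using hxy
    have := Nat.le_of_dvd (by omega) (orderOf_dvd_of_pow_eq_one h1)
    rw [hx] at this
    have : 2 ^ (n - 1) ≤ 2 ^ n := Nat.pow_le_pow_right (by norm_num) (by omega)
    omega

/-- The main theorem. -/
theorem half_transitive (q : ℕ) [Fact q.Prime] {V : Type*} [AddCommGroup V] [Module (ZMod q) V] [Finite V] [Nontrivial V]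
    {G : Type*} [Group G] [Finite G] (p : ℕ) [Fact p.Prime] (hG : IsPGroup p G)
    (ρ : G →* (V ≃ₗ[ZMod q] V)) (hρ : Function.Injective ρ) (heq : Equal ρ) :
    ((IsCyclic G ∨ ∃ n : ℕ, Nonempty (G ≃* QuaternionGroup n)) ∧ SemiReg ρ) ∨
    (Nat.card V = q ^ 2 ∧ ∃ m : ℕ, q = 2 ^ m - 1 ∧
      (Nonempty (G ≃* DihedralGroup (2 ^ m)) ∨ (Cfsg.IsQuasiDihedral G ∧ Nat.card G = 2 ^ (m + 2)))) ∨
    (Nat.card V = q ^ 2 ∧ (∃ m : ℕ, q = 2 ^ m + 1) ∧
      ∃ e : V ≃ₗ[ZMod q] (Fin 2 → ZMod q), ∀ f : (Fin 2 → ZMod q) ≃ₗ[ZMod q] (Fin 2 → ZMod q),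
        (∃ g : G, f = e.symm.trans ((ρ g).trans e)) ↔
        ∃ a s : ZMod q, a ≠ 0 ∧ (s = 1 ∨ s = -1) ∧
          ((∀ v, f v = ![a * v 0, s * a⁻¹ * v 1]) ∨ (∀ v, f v = ![s * a⁻¹ * v 1, a * v 0]))) ∨
    (Nat.card V = 81 ∧ q = 3 ∧ p = 2) := by
  by_cases hpq : p = q
  · subst hpq
    haveI := subsingleton_of_eq ρ hρ hG heq
    exact Or.inl ⟨Or.inl isCyclic_of_subsingleton, fun v _ g _ => Subsingleton.elim g 1⟩
  by_cases hs : SemiReg ρ
  · exact Or.inl ⟨cyclic_or_quaternion_of_semiReg ρ hG hpq hs, hs⟩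
  right
  have hco : ¬ q ∣ Nat.card G := fun hd => by
    obtain ⟨k, hk⟩ := IsPGroup.iff_card.1 hG
    rw [hk] at hd
    exact hpq ((Nat.prime_dvd_prime_iff_eq (Fact.out : q.Prime) Fact.out).1 ((Fact.out : q.Prime).dvd_of_dvd_pow hd)).symm
  have hirr := irreducible_of_not_semiReg ρ hρ hco heq hs
  have hnc : ¬ ∀ x y : G, x * y = y * x := fun h => hs (semiReg_of_comm ρ hρ hirr h)
  have hncyc : ¬ IsCyclic G := fun h => hnc (by letI := IsCyclic.commGroup (α := G); exact mul_comm)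
  -- a 2-group has odd characteristic
  have hodd : p = 2 → Odd q := fun h => (Fact.out : q.Prime).odd_of_ne_two fun h' => hpq (h.trans h'.symm)
  have htwo : (∃ n, Nonempty (G ≃* DihedralGroup n)) ∨ (∃ n, Nonempty (G ≃* QuaternionGroup n)) ∨
      Cfsg.IsQuasiDihedral G → p = 2 := by
    intro h
    have h2 : 2 ∣ Nat.card G := by
      rcases h with ⟨n, ⟨φ⟩⟩ | ⟨n, ⟨φ⟩⟩ | ⟨n, -, hc, -⟩
      · rw [Nat.card_congr φ.toEquiv, DihedralGroup.nat_card]; exact dvd_mul_right _ _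
      · rcases eq_or_ne n 0 with rfl | hn
        · rw [Nat.card_congr φ.toEquiv, Nat.card_congr QuaternionGroup.quaternionGroupZeroEquivDihedralGroupZero.toEquiv,
            DihedralGroup.nat_card]
          exact dvd_mul_right _ _
        · haveI : NeZero n := ⟨hn⟩
          rw [Nat.card_congr φ.toEquiv, Nat.card_eq_fintype_card, QuaternionGroup.card]; omega
      · rw [hc]; exact dvd_pow_self 2 (by omega)
    obtain ⟨k, hk⟩ := IsPGroup.iff_card.1 hG
    rw [hk] at h2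
    exact ((Nat.prime_dvd_prime_iff_eq Nat.prime_two Fact.out).1 (Nat.prime_two.dvd_of_dvd_pow h2)).symm
  have hk4 : ∀ f, 2 ≤ f → 4 ∣ 2 ^ f - 1 + 1 := fun f hf => by
    rw [Nat.sub_add_cancel Nat.one_le_two_pow]; exact pow_dvd_pow 2 hf
  by_cases hq' : ∃ n, Nonempty (G ≃* QuaternionGroup n)
  · obtain rfl := htwo (Or.inr (Or.inl hq'))
    obtain ⟨n, ⟨φ⟩⟩ := hq'
    obtain ⟨e, a, b, he, ha, hidx, hb, hba, hsq⟩ := quaternion_data hG φ hnc
    exact absurd (semiReg_of_squares ρ hρ hirr he ha hidx hb hba (hk4 e he) hsq) hs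
  by_cases hd : ∃ n, Nonempty (G ≃* DihedralGroup n)
  · obtain rfl := htwo (Or.inl hd)
    obtain ⟨n, ⟨φ⟩⟩ := hd
    obtain ⟨e, a, b, rfl, he, ha, hidx, hb, hba, hb2⟩ := dihedral_data hG φ hnc
    obtain ⟨hV, hq1⟩ := dihedral_case ρ hρ hirr he ha hidx hb hba (hk4 e he) heq hs hb2 (hodd rfl)
      (Nat.sub_add_cancel Nat.one_le_two_pow) le_rfl
    exact Or.inl ⟨hV, e, by omega, Or.inl ⟨φ⟩⟩
  by_cases hsd : Cfsg.IsQuasiDihedral G
  · obtain rfl := htwo (Or.inr (Or.inr hsd))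
    obtain ⟨e, a, b, he, hc, ha, hidx, hb, hba, hb2⟩ := semidihedral_data hsd
    obtain ⟨hV, hq1⟩ := dihedral_case ρ hρ hirr (by omega) ha hidx hb hba (hk4 (e - 1) (by omega)) heq hs hb2 (hodd rfl)
      (Nat.sub_add_cancel Nat.one_le_two_pow) (Nat.sub_le e 1)
    exact Or.inl ⟨hV, e - 1, by omega, Or.inr ⟨hsd, by rw [hc, show e - 1 + 2 = e + 1 by omega]⟩⟩
  obtain ⟨H, W, hidx, htop, hind, hstab, -, hperm⟩ := Cfsg.Agent.S3380.result q p hG ρ hρ hirr hncyc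
    (fun n h => hq' ⟨n, h⟩) (fun n h => hd ⟨n, h⟩) hsd
  right
  by_cases hp2 : p = 2
  · rcases two_case ρ hρ htop hind hstab hidx hperm heq hs hG hp2 (hodd hp2) with ⟨h1, h2⟩ | h
    · exact Or.inr ⟨h1, h2, hp2⟩
    · exact Or.inl h
  · exact absurd (odd_case ρ hρ htop hind hstab hidx hperm heq hp2) hs

end Cfsg.Agent.HalfTrans3371
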